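import Groth.Agent.IndEtLib.Sys
import Groth.Agent.EtPBC0.IntClComm
import Groth.Agent.S0736
import Groth.Agent.S12237
import Groth.Agent.S0539
import Groth.Agent.S2748
import Mathlib.RingTheory.Etale.Descent
import Mathlib.RingTheory.Finiteness.Descent
import Mathlib.RingTheory.Etale.Pi
import Mathlib.RingTheory.Unramified.Finite

set_option autoImplicit false
universe u

open TensorProduct

namespace Groth.Agent.SHSplit

variable (A : Type u) [CommRing A] [IsDomain A] (R : Type u) [CommRing R] [Algebra A R]
    (K L : Type u) [Field K] [Field L] [Algebra A K] [IsFractionRing A K] [Algebra R L] [IsFractionRing R L]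
    [Algebra K L] [Algebra A L] [IsScalarTower A K L] [IsScalarTower A R L]

omit [IsDomain A] [IsFractionRing R L] in
/-- Elements of an ind-étale algebra are algebraic over the fraction field. -/
theorem isIntegral_of_indEtale (h : EtPBC.IsIndEtale A R) (r : R) : IsIntegral K (algebraMap R L r) := by
  obtain ⟨S, hS, ⟨e⟩⟩ := IndEtLib.exists_sys h
  obtain ⟨j, y, hy⟩ := S.surj (e.symm r)
  haveI : Algebra.Etale A (S.A j) := hS j
  haveI : Algebra.Etale K (K ⊗[A] S.A j) := Algebra.Etale.baseChange A (S.A j) K
  haveI : Module.Finite K (K ⊗[A] S.A j) := Algebra.FormallyUnramified.finite_of_free K _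
  let f : S.A j →ₐ[A] L := (IsScalarTower.toAlgHom A R L).comp (e.toAlgHom.comp (S.ι j))
  let F : K ⊗[A] S.A j →ₐ[K] L :=
    Algebra.TensorProduct.lift (Algebra.ofId K L) f fun _ _ => Commute.all _ _
  have hF : F (1 ⊗ₜ y) = algebraMap R L r := by
    simp [F, f, hy]
  rw [← hF]
  exact (Algebra.IsIntegral.isIntegral ((1 : K) ⊗ₜ[A] y)).map F

variable {M : Type u} [CommRing M] [Algebra K M] [Algebra A M] [IsScalarTower A K M]

variable {A} in
/-- Base change of an `A`-algebra split over the fraction field of an ind-étale normal `R`. -/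
theorem exists_algEquiv_pi [Module.Finite K M] [IsDomain R] [IsIntegrallyClosed R] [Module.Flat A R]
    (hR : EtPBC.IsIndEtale A R) (hinj : Function.Injective (algebraMap A R))
    {ι : Type u} [Finite ι] (Θ : L ⊗[K] M ≃ₐ[L] (ι → L)) :
    Nonempty (R ⊗[A] integralClosure A M ≃ₐ[R] (ι → R)) := by
  classical
  haveI : Algebra.WeaklyEtale A R := Groth.Agent.S0736.result A R hR
  have hAL : Function.Injective (algebraMap A L) := by
    rw [IsScalarTower.algebraMap_eq A K L]
    exact (algebraMap K L).injective.comp (IsFractionRing.injective A K)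
  let ψ : R ⊗[A] M →ₐ[R] L ⊗[K] M :=
    Algebra.TensorProduct.lift ((Algebra.TensorProduct.includeLeft : L →ₐ[R] L ⊗[K] M).comp (Algebra.ofId R L))
      ((Algebra.TensorProduct.includeRight : M →ₐ[K] L ⊗[K] M).restrictScalars A) fun _ _ => Commute.all _ _
  have hψ : ∀ r m, ψ (r ⊗ₜ m) = algebraMap R L r ⊗ₜ m := fun r m => by simp [ψ]
  let b := Module.Free.chooseBasis K M
  haveI : Fintype (Module.Free.ChooseBasisIndex K M) := Fintype.ofFinite _
  have hψinj : Function.Injective ψ := by
    rw [injective_iff_map_eq_zero]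
    intro y hy
    have hform : ∃ (a : A) (c : Module.Free.ChooseBasisIndex K M → R), a ≠ 0 ∧
        y = ∑ j, c j ⊗ₜ[A] ((algebraMap A K a)⁻¹ • b j) := by
      clear hy
      induction y using TensorProduct.induction_on with
      | zero => exact ⟨1, 0, one_ne_zero, by simp⟩
      | tmul r m =>
        obtain ⟨⟨a, ha⟩, hav⟩ := IsLocalization.exist_integer_multiples_of_finite (nonZeroDivisors A)
          (fun j => b.repr m j)
        choose v hv using hav
        refine ⟨a, fun j => v j • r, nonZeroDivisors.ne_zero ha, ?_⟩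
        have hm : m = ∑ j, v j • ((algebraMap A K a)⁻¹ • b j) := by
          conv_lhs => rw [← b.sum_repr m]
          refine Finset.sum_congr rfl fun j _ => ?_
          rw [← algebraMap_smul K (v j), hv, smul_smul]
          congr 1
          rw [Algebra.smul_def, mul_assoc, mul_comm _ (algebraMap A K a)⁻¹, ← mul_assoc,
            mul_inv_cancel₀ (IsFractionRing.to_map_ne_zero_of_mem_nonZeroDivisors ha), one_mul]
        conv_lhs => rw [hm, TensorProduct.tmul_sum]
        exact Finset.sum_congr rfl fun j _ => (TensorProduct.smul_tmul (v j) r _).symm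
      | add x y hx hy =>
        obtain ⟨a, c, ha, rfl⟩ := hx
        obtain ⟨a', c', ha', rfl⟩ := hy
        refine ⟨a * a', fun j => a' • c j + a • c' j, mul_ne_zero ha ha', ?_⟩
        rw [← Finset.sum_add_distrib]
        refine Finset.sum_congr rfl fun j _ => ?_
        rw [TensorProduct.add_tmul, TensorProduct.smul_tmul, TensorProduct.smul_tmul,
          ← algebraMap_smul K a', ← algebraMap_smul K a, smul_smul, smul_smul, map_mul]
        have h1 : (algebraMap A K a) ≠ 0 := fun h => ha (IsFractionRing.injective A K (h.trans (map_zero _).symm))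
        have h2 : (algebraMap A K a') ≠ 0 := fun h => ha' (IsFractionRing.injective A K (h.trans (map_zero _).symm))
        congr 2 <;> congr 1 <;> field_simp
    obtain ⟨a, c, ha, rfl⟩ := hform
    have h1 : ∑ j, (algebraMap R L (c j) * algebraMap K L (algebraMap A K a)⁻¹) •
        Algebra.TensorProduct.basis L b j = 0 := by
      rw [← hy, map_sum]
      refine Finset.sum_congr rfl fun j _ => ?_
      rw [hψ, Algebra.TensorProduct.basis_apply, TensorProduct.smul_tmul', smul_eq_mul, mul_one,
        TensorProduct.tmul_smul, TensorProduct.smul_tmul', Algebra.smul_def, mul_comm]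
    have h2 := Fintype.linearIndependent_iff.1 (Algebra.TensorProduct.basis L b).linearIndependent _ h1
    refine Finset.sum_eq_zero fun j _ => ?_
    have h3 : c j = 0 := IsFractionRing.injective R L (by
      rw [map_zero]
      refine (mul_eq_zero.1 (h2 j)).resolve_right fun h => ha (IsFractionRing.injective A K ?_)
      rw [map_zero]
      simpa using h)
    rw [h3, TensorProduct.zero_tmul]
  let e := AlgEquiv.ofBijective (TensorProduct.toIntegralClosure A R M)
    (EtPBC0.toIntegralClosure_bijective_of_weaklyEtale A R M)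
  let Φ : integralClosure R (R ⊗[A] M) →ₐ[R] (ι → L) :=
    ((Θ.toAlgHom.restrictScalars R).comp ψ).comp (integralClosure R (R ⊗[A] M)).val
  have hΦinj : Function.Injective Φ := fun x y h => Subtype.ext (hψinj (Θ.injective h))
  -- every element of `L ⊗ M` has a multiple coming from `R ⊗ M`
  have hmult : ∀ z : L ⊗[K] M, ∃ a : A, a ≠ 0 ∧ ∃ y : R ⊗[A] M, ψ y = algebraMap A (L ⊗[K] M) a * z := by
    intro z
    induction z using TensorProduct.induction_on with
    | zero => exact ⟨1, one_ne_zero, 0, by simp⟩
    | tmul l m =>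
      obtain ⟨r₁, r₂, hr₂, hl⟩ := IsFractionRing.div_surjective (A := R) l
      have halg : IsAlgebraic A r₂ := by
        refine (isAlgebraic_algebraMap_iff (IsFractionRing.injective R L)).1 ?_
        exact (IsFractionRing.isAlgebraic_iff A K L).2 (isIntegral_of_indEtale A R K L hR r₂).isAlgebraic
      obtain ⟨a, ha, d, hd⟩ := IsAlgebraic.exists_nonzero_dvd halg hr₂
      refine ⟨a, ha, (r₁ * d) ⊗ₜ m, ?_⟩
      rw [hψ, IsScalarTower.algebraMap_apply A L (L ⊗[K] M), Algebra.TensorProduct.algebraMap_apply,
        Algebra.TensorProduct.tmul_mul_tmul, one_mul, Algebra.algebraMap_self, RingHom.id_apply, ← hl,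
        IsScalarTower.algebraMap_apply A R L, hd, map_mul, map_mul]
      have : algebraMap R L r₂ ≠ 0 := IsFractionRing.to_map_ne_zero_of_mem_nonZeroDivisors hr₂
      congr 1
      field_simp
    | add x y hx hy =>
      obtain ⟨a, ha, x', hx'⟩ := hx
      obtain ⟨a', ha', y', hy'⟩ := hy
      refine ⟨a * a', mul_ne_zero ha ha', algebraMap A _ a' * x' + algebraMap A _ a * y', ?_⟩
      rw [map_add, map_mul, map_mul, hx', hy', ← AlgHom.restrictScalars_apply A ψ (algebraMap A _ a'),
        ← AlgHom.restrictScalars_apply A ψ (algebraMap A _ a), AlgHom.commutes, AlgHom.commutes, map_mul]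
      ring
  let j : (ι → R) →ₐ[R] (ι → L) :=
    Pi.algHom R (fun _ : ι => L) fun i => (Algebra.ofId R L).comp (Pi.evalAlgHom R (fun _ : ι => R) i)
  have hrange : ∀ f : ι → L, f ∈ Φ.range ↔ ∀ i, f i ∈ Set.range (algebraMap R L) := by
    intro f
    constructor
    · rintro ⟨x, rfl⟩ i
      have hxi : IsIntegral R x := integralClosure.isIntegral x
      exact IsIntegrallyClosed.isIntegral_iff.1 ((hxi.map Φ).map (Pi.evalAlgHom R (fun _ : ι => L) i))
    · intro hf
      choose g hg using hf
      obtain ⟨a, ha, y, hy⟩ := hmult (Θ.symm f)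
      have haK : algebraMap A K a ≠ 0 := fun h => ha (IsFractionRing.injective A K (h.trans (map_zero _).symm))
      let y' : R ⊗[A] M := (1 : R) ⊗ₜ[A] algebraMap K M (algebraMap A K a)⁻¹ * y
      have hy' : ψ y' = Θ.symm f := by
        rw [map_mul, hψ, map_one, hy, ← mul_assoc, IsScalarTower.algebraMap_apply A K (L ⊗[K] M),
          show (1 : L) ⊗ₜ[K] algebraMap K M (algebraMap A K a)⁻¹ = algebraMap K (L ⊗[K] M) (algebraMap A K a)⁻¹ from
            (Algebra.TensorProduct.algebraMap_apply' _).symm, ← map_mul, inv_mul_cancel₀ haK, map_one, one_mul]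
      have hint : IsIntegral R y' := by
        rw [← isIntegral_algHom_iff ((Θ.toAlgHom.restrictScalars R).comp ψ) (Θ.injective.comp hψinj)]
        show IsIntegral R (Θ (ψ y'))
        rw [hy', AlgEquiv.apply_symm_apply, show f = j g from funext fun i => (hg i).symm]
        exact (Algebra.IsIntegral.isIntegral g).map j
      refine ⟨⟨y', hint⟩, ?_⟩
      show Θ (ψ y') = f
      rw [hy', AlgEquiv.apply_symm_apply]
  have hjinj : Function.Injective j := fun x y h => funext fun i => IsFractionRing.injective R L (congrFun h i)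
  have hjr : j.range = Φ.range := by
    ext f
    rw [hrange]
    exact ⟨by rintro ⟨g, rfl⟩ i; exact ⟨g i, rfl⟩, fun h => ⟨fun i => (h i).choose, funext fun i => (h i).choose_spec⟩⟩
  exact ⟨e.trans ((AlgEquiv.ofInjective Φ hΦinj).trans
    ((Subalgebra.equivOfEq _ _ hjr.symm).trans (AlgEquiv.ofInjective j hjinj).symm))⟩

variable {A} in
theorem etale_integralClosure [IsLocalRing A] [IsIntegrallyClosed A] [IsLocalRing R]
    [IsLocalHom (algebraMap A R)] [Hensel.IsStrictHenselization A R]
    [Module.Finite K M] {ι : Type u} [Finite ι] (Θ : L ⊗[K] M ≃ₐ[L] (ι → L)) :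
    Algebra.Etale A (integralClosure A M) ∧ Module.Finite A (integralClosure A M) := by
  obtain ⟨h1, h2⟩ := (Groth.Agent.S2748.result A R).2 ⟨inferInstance, inferInstance⟩
  haveI : Module.FaithfullyFlat A R := Groth.Agent.S0539.result A R
  obtain ⟨E⟩ := exists_algEquiv_pi (A := A) R K L (M := M) (Groth.Agent.S12237.result A R)
    (FaithfulSMul.algebraMap_injective A R) Θ
  haveI : Algebra.Etale R (R ⊗[A] integralClosure A M) := Algebra.Etale.of_equiv E.symm
  haveI : Module.Finite R (R ⊗[A] integralClosure A M) := Module.Finite.equiv E.symm.toLinearEquiv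
  exact ⟨Algebra.Etale.of_etale_tensorProduct_of_faithfullyFlat R,
    Module.Finite.of_finite_tensorProduct_of_faithfullyFlat R⟩

end Groth.Agent.SHSplit
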