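import Groth.Prelude.Def_Pi1
import Mathlib.RingTheory.Localization.Integral
import Mathlib.RingTheory.RingHom.Etale

set_option autoImplicit false
set_option backward.isDefEq.respectTransparency false
set_option backward.isDefEq.respectTransparency.types false
universe u

open TensorProduct CategoryTheory CategoryTheory.Limits AlgebraicGeometry

namespace Groth.Agent.SHSplit

/-- The ring of a finite étale cover of an affine scheme. -/
theorem exists_ring {K : Type u} [CommRing K] (V : FEt.Cat (Spec (CommRingCat.of K))) :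
    ∃ (M : Type u) (_ : CommRing M) (_ : Algebra K M) (_ : Module.Finite K M) (e : V.left ≅ Spec (CommRingCat.of M)),
      e.hom ≫ Spec.map (CommRingCat.ofHom (algebraMap K M)) = V.hom := by
  haveI : IsFinite V.hom := V.prop.1
  haveI : IsAffine ((Functor.fromPUnit (Spec (CommRingCat.of K))).obj V.right) := inferInstanceAs (IsAffine (Spec (CommRingCat.of K)))
  haveI : IsAffine V.left := isAffine_of_isAffineHom V.hom
  let f := Spec.preimage (V.left.isoSpec.inv ≫ V.hom)
  letI : Algebra K Γ(V.left, ⊤) := f.hom.toAlgebra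
  have hf : Spec.map (CommRingCat.ofHom (algebraMap K Γ(V.left, ⊤))) = V.left.isoSpec.inv ≫ V.hom :=
    Spec.map_preimage _
  have : IsFinite (Spec.map (CommRingCat.ofHom (algebraMap K Γ(V.left, ⊤)))) := by
    rw [hf]; infer_instance
  rw [IsFinite.SpecMap_iff, CommRingCat.hom_ofHom, RingHom.finite_algebraMap] at this
  refine ⟨Γ(V.left, ⊤), inferInstance, inferInstance, this, V.left.isoSpec, ?_⟩
  show V.left.isoSpec.hom ≫ _ = _
  rw [hf, Iso.hom_inv_id_assoc]

theorem exists_split {K L M : Type u} [CommRing K] [CommRing L] [CommRing M] [Algebra K L] [Algebra K M]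
    {V : FEt.Cat (Spec (CommRingCat.of K))} (e : V.left ≅ Spec (CommRingCat.of M))
    (he : e.hom ≫ Spec.map (CommRingCat.ofHom (algebraMap K M)) = V.hom)
    (hV : Pi1.IsSplit ((FEt.restrict (Spec.map (CommRingCat.ofHom (algebraMap K L)))).obj V)) :
    ∃ (ι : Type u) (_ : Finite ι), Nonempty (L ⊗[K] M ≃ₐ[L] (ι → L)) := by
  obtain ⟨ι, _, E, hE⟩ := hV
  let g := Spec.map (CommRingCat.ofHom (algebraMap K L))
  let a : ((FEt.restrict g).obj V).left ≅
      pullback g (Spec.map (CommRingCat.ofHom (algebraMap K M))) :=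
    pullbackSymmetry V.hom g ≪≫ asIso (pullback.map g V.hom g (Spec.map (CommRingCat.ofHom (algebraMap K M)))
      (𝟙 _) e.hom (𝟙 _) (by simp) (by simp [he]))
  let t : Spec (CommRingCat.of (L ⊗[K] M)) ≅ Spec (CommRingCat.of (ι → L)) :=
    (pullbackSpecIso K L M).symm ≪≫ a.symm ≪≫ E ≪≫ asIso (sigmaSpec (fun _ : ι => CommRingCat.of L))
  have hinv : t.inv ≫ Spec.map (CommRingCat.ofHom (algebraMap L (L ⊗[K] M))) =
      Spec.map (CommRingCat.ofHom (algebraMap L (ι → L))) := by
    rw [← cancel_epi (sigmaSpec (fun _ : ι => CommRingCat.of L))]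
    refine Sigma.hom_ext _ _ fun i => ?_
    have h1 : sigmaSpec (fun _ : ι => CommRingCat.of L) ≫ t.inv ≫ Spec.map (CommRingCat.ofHom (algebraMap L (L ⊗[K] M))) =
        E.inv ≫ ((FEt.restrict g).obj V).hom := by
      simp only [t, a, Iso.trans_inv, Iso.symm_inv, asIso_inv, IsIso.hom_inv_id_assoc, Category.assoc,
        Iso.trans_hom, asIso_hom]
      have h0 : (pullbackSpecIso K L M).hom ≫ Spec.map (CommRingCat.ofHom (algebraMap L (L ⊗[K] M))) = pullback.fst _ _ := by
        rw [← Iso.eq_inv_comp, pullbackSpecIso_inv_fst']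
      rw [h0, pullback.lift_fst, Category.comp_id, pullbackSymmetry_hom_comp_fst]
      rfl
    rw [h1, ← Category.assoc (Sigma.ι _ i) (sigmaSpec _), ι_sigmaSpec, ← Spec.map_comp]
    refine (hE i).trans ?_
    rw [show CommRingCat.ofHom (algebraMap L (ι → L)) ≫ CommRingCat.ofHom (Pi.evalRingHom (fun _ : ι => L) i) =
      𝟙 (CommRingCat.of L) from rfl, Spec.map_id]
  let h : CommRingCat.of (L ⊗[K] M) ≅ CommRingCat.of (ι → L) :=
    { hom := Spec.preimage t.inv
      inv := Spec.preimage t.hom
      hom_inv_id := Spec.map_injective (by simp [Spec.map_preimage])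
      inv_hom_id := Spec.map_injective (by simp [Spec.map_preimage]) }
  refine ⟨ι, inferInstance, ⟨AlgEquiv.ofRingEquiv (f := h.commRingCatIsoToRingEquiv) fun l => ?_⟩⟩
  have : CommRingCat.ofHom (algebraMap L (L ⊗[K] M)) ≫ h.hom = CommRingCat.ofHom (algebraMap L (ι → L)) :=
    Spec.map_injective (by rw [Spec.map_comp, Spec.map_preimage, hinv])
  exact ConcreteCategory.congr_hom this l

/-- The integral closure in a `K`-algebra becomes the algebra after localising. -/
theorem bijective_lift (A : Type u) [CommRing A] [IsDomain A] (K : Type u) [Field K] [Algebra A K] [IsFractionRing A K]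
    (M : Type u) [CommRing M] [Algebra K M] [Module.Finite K M] [Algebra A M] [IsScalarTower A K M] :
    Function.Bijective (Algebra.TensorProduct.lift (Algebra.ofId K M) (integralClosure A M).val
      fun _ _ => Commute.all _ _ : K ⊗[A] integralClosure A M →ₐ[K] M) := by
  constructor
  · rw [injective_iff_map_eq_zero]
    intro z hz
    have hform : ∃ (a : A) (x : integralClosure A M), a ≠ 0 ∧ z = (algebraMap A K a)⁻¹ ⊗ₜ[A] x := by
      clear hz
      induction z using TensorProduct.induction_on with
      | zero => exact ⟨1, 0, one_ne_zero, by simp⟩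
      | tmul k x =>
        obtain ⟨b, a, ha, rfl⟩ := IsFractionRing.div_surjective (A := A) k
        refine ⟨a, b • x, nonZeroDivisors.ne_zero ha, ?_⟩
        rw [← TensorProduct.smul_tmul, Algebra.smul_def, div_eq_mul_inv]
      | add x y hx hy =>
        obtain ⟨a, x, ha, rfl⟩ := hx
        obtain ⟨b, y, hb, rfl⟩ := hy
        refine ⟨a * b, b • x + a • y, mul_ne_zero ha hb, ?_⟩
        have h1 : (algebraMap A K a) ≠ 0 := fun h => ha (IsFractionRing.injective A K (h.trans (map_zero _).symm))
        have h2 : (algebraMap A K b) ≠ 0 := fun h => hb (IsFractionRing.injective A K (h.trans (map_zero _).symm))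
        rw [TensorProduct.tmul_add, ← TensorProduct.smul_tmul, ← TensorProduct.smul_tmul]
        congr 2 <;> rw [Algebra.smul_def, map_mul] <;> field_simp
    obtain ⟨a, x, ha, rfl⟩ := hform
    have hx : (x : M) = 0 := by
      have hu : IsUnit (algebraMap K M (algebraMap A K a)⁻¹) := (IsUnit.inv (IsUnit.mk0 _ fun h =>
        ha (IsFractionRing.injective A K (h.trans (map_zero _).symm)))).map _
      simpa [hu.mul_right_eq_zero] using hz
    rw [show x = 0 from Subtype.ext hx, TensorProduct.tmul_zero]
  · intro m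
    obtain ⟨⟨a, ha⟩, hint⟩ := IsIntegral.exists_multiple_integral_of_isLocalization (nonZeroDivisors A) (Rₘ := K) m
      (Algebra.IsIntegral.isIntegral m)
    refine ⟨(algebraMap A K a)⁻¹ ⊗ₜ ⟨_, hint⟩, ?_⟩
    rw [Algebra.TensorProduct.lift_tmul, Algebra.ofId_apply]
    show _ * ((⟨a, ha⟩ : nonZeroDivisors A) • m) = m
    rw [Submonoid.smul_def, Algebra.smul_def, IsScalarTower.algebraMap_apply A K M, ← mul_assoc, ← map_mul,
      inv_mul_cancel₀ (IsFractionRing.to_map_ne_zero_of_mem_nonZeroDivisors ha), map_one, one_mul]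

end Groth.Agent.SHSplit
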